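import Mathlib
import Cfsg.Agent.Lib.Puig.Basic
import Cfsg.Agent.Lib.Coprime.Quotient
import Cfsg.Agent.Lib.PSolvable.CoprimeQuot

/-!
The Puig series of a subgroup, seen in the ambient group.
-/

set_option autoImplicit false

namespace Cfsg.Agent.Lib.Puig

open Subgroup

universe u

variable {G : Type u} [Group G]

theorem puigStep_map {H : Type u} [Group H] (e : G ≃* H) (X : Subgroup G) :
    (puigStep X).map e.toMonoidHom = puigStep (X.map e.toMonoidHom) := by
  have key : ∀ {G' H' : Type u} [Group G'] [Group H'] (e : G' ≃* H') (X : Subgroup G'),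
      (puigStep X).map e.toMonoidHom ≤ puigStep (X.map e.toMonoidHom) := by
    intro G' H' _ _ e X
    rw [map_le_iff_le_comap]
    refine sSup_le fun A ⟨hA, hXA⟩ => map_le_iff_le_comap.mp (le_puigStep ?_ ?_)
    · haveI := hA
      exact map_isMulCommutative A _
    · exact (map_mono hXA).trans (le_normalizer_map _)
  refine le_antisymm (key e X) ?_
  have h := map_mono (f := e.toMonoidHom) (key e.symm (X.map e.toMonoidHom))
  simp only [Subgroup.map_map] at h
  simpa using h

theorem puigSeq_map {H : Type u} [Group H] (e : G ≃* H) (n : ℕ) :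
    (puigSeq G n).map e.toMonoidHom = puigSeq H n := by
  induction n with
  | zero => exact Subgroup.map_bot _
  | succ n ih => rw [puigSeq_succ, puigSeq_succ, puigStep_map, ih]

instance puigSeq_characteristic (n : ℕ) : (puigSeq G n).Characteristic :=
  characteristic_iff_map_eq.mpr fun e => puigSeq_map e n

/-- The `n`-th Puig term of the subgroup `S`, in the ambient group. -/
def puigIn (S : Subgroup G) (n : ℕ) : Subgroup G := (puigSeq S n).map S.subtype

theorem puigIn_le (S : Subgroup G) (n : ℕ) : puigIn S n ≤ S := map_subtype_le _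

theorem puigIn_one (S : Subgroup G) : puigIn S 1 = S := by
  rw [puigIn, puigSeq_one, ← MonoidHom.range_eq_map, range_subtype]

theorem puigIn_zero (S : Subgroup G) : puigIn S 0 = ⊥ := Subgroup.map_bot _

theorem le_puigIn_succ {S A : Subgroup G} {n : ℕ} (hAS : A ≤ S) (hA : IsMulCommutative A)
    (hn : puigIn S n ≤ normalizer (A : Set G)) : A ≤ puigIn S (n + 1) := by
  intro a ha
  refine ⟨⟨a, hAS ha⟩, ?_, rfl⟩
  refine le_puigStep (A := A.subgroupOf S) ?_ ?_ (show (⟨a, hAS ha⟩ : S) ∈ A.subgroupOf S from ha)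
  · exact ⟨⟨fun x y => Subtype.ext (Subtype.ext (show (x.1.1 : G) * y.1.1 = y.1.1 * x.1.1 from
      congrArg Subtype.val (mul_comm' (⟨x.1.1, x.2⟩ : A) ⟨y.1.1, y.2⟩)))⟩⟩
  · intro x hx
    rw [mem_normalizer_iff]
    exact fun y => mem_normalizer_iff.mp (hn ⟨x, hx, rfl⟩) y

theorem puigIn_succ_le {S T : Subgroup G} {n : ℕ}
    (h : ∀ A ≤ S, IsMulCommutative A → puigIn S n ≤ normalizer (A : Set G) → A ≤ T) :
    puigIn S (n + 1) ≤ T := by
  rw [puigIn, map_le_iff_le_comap]
  refine sSup_le fun A ⟨hA, hXA⟩ => map_le_iff_le_comap.mp (h _ (map_subtype_le _) ?_ ?_)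
  · haveI := hA
    exact map_isMulCommutative A _
  · exact (map_mono hXA).trans (le_normalizer_map _)

theorem normalizer_le_normalizer_puigIn (S : Subgroup G) (n : ℕ) :
    normalizer (S : Set G) ≤ normalizer (puigIn S n : Set G) :=
  Lib.Coprime.normalizer_le_normalizer_map_of_characteristic (puigSeq S n)

/-- `L(S)` in the ambient group. -/
def puigTop (S : Subgroup G) : Subgroup G := (puigSubgroup S).map S.subtype

/-- `L_*(S)` in the ambient group. -/
def puigBot (S : Subgroup G) : Subgroup G := (puigLower S).map S.subtype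

theorem exists_stableIn [Finite G] (S : Subgroup G) : ∃ k : ℕ, ∀ n : ℕ, k ≤ n →
    puigIn S (2 * n) = puigBot S ∧ puigIn S (2 * n + 1) = puigTop S := by
  obtain ⟨k, hk⟩ := exists_stable (G := S)
  exact ⟨k, fun n hn => ⟨congrArg (Subgroup.map S.subtype) (hk n hn).1,
    congrArg (Subgroup.map S.subtype) (hk n hn).2⟩⟩

theorem puigBot_le_puigTop (S : Subgroup G) : puigBot S ≤ puigTop S :=
  map_mono puigLower_le_puigSubgroup

theorem puigTop_le (S : Subgroup G) : puigTop S ≤ S := map_subtype_le _

theorem puigBot_le (S : Subgroup G) : puigBot S ≤ S := map_subtype_le _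

theorem le_puigTop_of_normalized [Finite G] {S A : Subgroup G} (hAS : A ≤ S) (hA : IsMulCommutative A)
    (hn : puigBot S ≤ normalizer (A : Set G)) : A ≤ puigTop S := by
  obtain ⟨k, hk⟩ := exists_stableIn S
  obtain ⟨h1, h2⟩ := hk k le_rfl
  rw [← h2]
  exact le_puigIn_succ hAS hA (h1 ▸ hn)

theorem le_puigBot_of_normalized [Finite G] {S A : Subgroup G} (hAS : A ≤ S) (hA : IsMulCommutative A)
    (hn : puigTop S ≤ normalizer (A : Set G)) : A ≤ puigBot S := by
  obtain ⟨k, hk⟩ := exists_stableIn S
  rw [← (hk (k + 1) (Nat.le_succ k)).1]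
  exact le_puigIn_succ hAS hA ((hk k le_rfl).2.le.trans hn)

theorem puigTop_le_of_normalized [Finite G] {S T : Subgroup G}
    (h : ∀ A ≤ S, IsMulCommutative A → puigBot S ≤ normalizer (A : Set G) → A ≤ T) :
    puigTop S ≤ T := by
  obtain ⟨k, hk⟩ := exists_stableIn S
  rw [← (hk k le_rfl).2]
  exact puigIn_succ_le fun A hA hc hn => h A hA hc ((hk k le_rfl).1.ge.trans hn)

theorem puigBot_le_of_normalized [Finite G] {S T : Subgroup G}
    (h : ∀ A ≤ S, IsMulCommutative A → puigTop S ≤ normalizer (A : Set G) → A ≤ T) :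
    puigBot S ≤ T := by
  obtain ⟨k, hk⟩ := exists_stableIn S
  rw [← (hk (k + 1) (Nat.le_succ k)).1]
  exact puigIn_succ_le fun A hA hc hn => h A hA hc ((hk k le_rfl).2.ge.trans hn)

/-- A subgroup between `L(S)` and `S` has the same Puig subgroup. -/
theorem puigTop_eq_of_le [Finite G] {S U : Subgroup G} (hLU : puigTop S ≤ U) (hUS : U ≤ S) :
    puigTop U = puigTop S := by
  obtain ⟨k, hk⟩ := exists_stableIn S
  obtain ⟨l, hl⟩ := exists_stableIn U
  -- first half: `L_{2n+1}(U) ≤ L_{2n+1}(S)` and `L_{2n}(S) ≤ L_{2n}(U)`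
  have h1 : ∀ n, puigIn S (2 * n) ≤ puigIn U (2 * n) ∧ puigIn U (2 * n + 1) ≤ puigIn S (2 * n + 1) := by
    intro n
    induction n with
    | zero => exact ⟨(puigIn_zero S).le.trans bot_le, by rw [puigIn_one, puigIn_one]; exact hUS⟩
    | succ n ih =>
      have hev : puigIn S (2 * (n + 1)) ≤ puigIn U (2 * (n + 1)) := by
        refine puigIn_succ_le (n := 2 * n + 1) fun A hAS hA hn => ?_
        refine le_puigIn_succ ?_ hA (ih.2.trans hn)
        refine le_trans ?_ ((puigBot_le_puigTop S).trans hLU)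
        refine le_puigBot_of_normalized hAS hA (le_trans ?_ hn)
        rcases le_total k n with h | h
        · exact ((hk n h).2).ge
        · rw [← (hk k le_rfl).2]
          exact map_mono (odd_antitone h)
      refine ⟨hev, puigIn_succ_le (n := 2 * (n + 1)) fun A hAU hA hn => ?_⟩
      exact le_puigIn_succ (hAU.trans hUS) hA (hev.trans hn)
  -- second half: `L(S) ≤ L_{2n+1}(U)`
  have h2 : ∀ n, puigTop S ≤ puigIn U (2 * n + 1) := by
    intro n
    induction n with
    | zero => rw [puigIn_one]; exact hLU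
    | succ n ih =>
      have hev : puigIn U (2 * (n + 1)) ≤ puigBot S :=
        puigIn_succ_le (n := 2 * n + 1) fun A hAU hA hn =>
          le_puigBot_of_normalized (hAU.trans hUS) hA (ih.trans hn)
      refine puigTop_le_of_normalized fun A hAS hA hn => ?_
      exact le_puigIn_succ ((le_puigTop_of_normalized hAS hA hn).trans hLU) hA (hev.trans hn)
  refine le_antisymm ?_ ?_
  · rw [← (hl (max k l) (le_max_right _ _)).2, ← (hk (max k l) (le_max_left _ _)).2]
    exact (h1 _).2
  · rw [← (hl l le_rfl).2]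
    exact h2 l

theorem puigTop_map [Finite G] {H : Type u} [Group H] (f : G →* H) (S : Subgroup G)
    (hf : Set.InjOn f S) : (puigTop S).map f = puigTop (S.map f) := by
  have hinj : Function.Injective (f.subgroupMap S) := fun x y h =>
    Subtype.ext (hf x.2 y.2 (congrArg Subtype.val h))
  let e : S ≃* S.map f := MulEquiv.ofBijective (f.subgroupMap S) ⟨hinj, f.subgroupMap_surjective S⟩
  have he : (puigSubgroup S).map e.toMonoidHom = puigSubgroup (S.map f) := by
    haveI : Finite (S.map f) := Finite.of_equiv S e.toEquiv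
    obtain ⟨k, hk⟩ := exists_stable (G := S)
    obtain ⟨l, hl⟩ := exists_stable (G := S.map f)
    rw [← (hk (max k l) (le_max_left _ _)).2, ← (hl (max k l) (le_max_right _ _)).2, puigSeq_map]
  rw [puigTop, puigTop, ← he, Subgroup.map_map, Subgroup.map_map]
  rfl

end Cfsg.Agent.Lib.Puig
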